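import Mathlib
import Cfsg.Agent.H374.Quad

/-!
# S3591: definitions for the elimination of the simple sections (helper379)

`L = PSp₄(q)`, `q = p ^ n > 3`, `q ≠ 5`; the spectrum of `L` is `H374.Quad.Om p q` (`H374.SpFour.mem_range_iff`).

* `R q = (q² + 1) / (2, q - 1)` the isolated number; `E q = (q² - 1) / (2, q - 1)`;
* `Hyp p q S` : all element orders of `S` are in `Om p q` and there is an element of order `R q`;
* `Hyp.cases` : every element order divides `R q` or is prime to `R q`;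
* `Lam p q N` : `N` divides `ps p q * E q`; every element order prime to `R q` has this property (`Hyp.lam`), it is
  closed under least common multiples (`Lam.lcm`), and **`N² < 2 R³`** (`Lam.size`);
* `Hyp.not_adj` : a prime divisor of `R q` is adjacent only to prime divisors of `R q`.
-/

set_option autoImplicit false

universe u v

namespace Cfsg.Agent.H379.P4

open Cfsg.Agent.H374.Quad (Om)

/-- the isolated number of `PSp₄(q)` -/
def R (q : ℕ) : ℕ := (q ^ 2 + 1) / Nat.gcd 2 (q - 1)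

/-- the other torus -/
def E (q : ℕ) : ℕ := (q ^ 2 - 1) / Nat.gcd 2 (q - 1)

/-- the parameters -/
structure Par (p q : ℕ) : Prop where
  prime : p.Prime
  pow : ∃ n, q = p ^ n
  big : 3 < q
  ne : q ≠ 5

/-- what is used of a simple group in the elimination -/
structure Hyp (p q : ℕ) (S : Type u) [Group S] : Prop where
  om : ∀ x : S, Om p q (orderOf x)
  ex : ∃ x : S, orderOf x = R q

variable {p q : ℕ}

theorem Hyp.of_equiv {S : Type u} {T : Type v} [Group S] [Group T] (h : Hyp p q S) (e : S ≃* T) : Hyp p q T := by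
  refine ⟨fun x => ?_, ?_⟩
  · rw [← MulEquiv.orderOf_eq e.symm x]
    exact h.om _
  · obtain ⟨x, hx⟩ := h.ex
    exact ⟨e x, by rw [MulEquiv.orderOf_eq, hx]⟩

/-- the `p`-part -/
def ps (p : ℕ) : ℕ := if p = 3 then 9 else if p = 2 then 4 else p

/-- odd and even `q` -/
theorem Par.parity (h : Par p q) : (p ≠ 2 ∧ q % 2 = 1 ∧ Nat.gcd 2 (q - 1) = 2) ∨
    (p = 2 ∧ q % 4 = 0 ∧ Nat.gcd 2 (q - 1) = 1) := by
  obtain ⟨n, hn⟩ := h.pow
  have hb := h.big
  by_cases hp : p = 2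
  · right
    refine ⟨hp, ?_, ?_⟩
    · have h2 : 2 ≤ n := by
        by_contra hlt
        have : n = 0 ∨ n = 1 := by omega
        rcases this with h1 | h1 <;> rw [hn, h1, hp] at hb <;> omega
      obtain ⟨k, rfl⟩ := Nat.exists_eq_add_of_le h2
      rw [hn, hp, pow_add]
      omega
    · have h2 : Even q := by
        rw [hn, hp]
        have : n ≠ 0 := by
          rintro rfl
          rw [hn] at hb
          simp at hb
        exact (Nat.even_pow.2 ⟨even_two, this⟩)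
      exact H374.Quad.gcd_of_even h2 (by omega)
  · left
    have h2 : Odd q := by
      rw [hn]
      exact (h.prime.odd_of_ne_two hp).pow
    exact ⟨hp, Nat.odd_iff.1 h2, H374.Quad.gcd_of_odd h2⟩

theorem gcd_pos (q : ℕ) : 0 < Nat.gcd 2 (q - 1) := Nat.gcd_pos_of_pos_left _ (by norm_num)

theorem Par.R_mul (h : Par p q) : R q * Nat.gcd 2 (q - 1) = q ^ 2 + 1 := by
  apply Nat.div_mul_cancel
  rcases h.parity with ⟨-, h1, h2⟩ | ⟨-, -, h2⟩
  · rw [h2]
    have : q ^ 2 % 2 = 1 := by rw [Nat.pow_mod, h1]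
    omega
  · rw [h2]
    exact one_dvd _

theorem Par.E_mul (h : Par p q) : E q * Nat.gcd 2 (q - 1) = q ^ 2 - 1 := by
  apply Nat.div_mul_cancel
  rcases h.parity with ⟨-, h1, h2⟩ | ⟨-, -, h2⟩
  · rw [h2]
    have : q ^ 2 % 2 = 1 := by rw [Nat.pow_mod, h1]
    omega
  · rw [h2]
    exact one_dvd _

/-- `R = E + 1` (odd `q`), `R = E + 2` (even `q`) -/
theorem Par.R_eq (h : Par p q) : (p ≠ 2 ∧ q % 2 = 1 ∧ 2 * R q = q * q + 1 ∧ R q = E q + 1) ∨
    (p = 2 ∧ q % 4 = 0 ∧ R q = q * q + 1 ∧ R q = E q + 2) := by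
  have h1 := h.R_mul
  have h2 := h.E_mul
  have hb : 4 * 4 ≤ q * q := Nat.mul_le_mul h.big h.big
  rw [pow_two] at h1 h2
  rcases h.parity with ⟨a, b, c⟩ | ⟨a, b, c⟩
  · rw [c] at h1 h2
    exact Or.inl ⟨a, b, by omega, by omega⟩
  · rw [c] at h1 h2
    exact Or.inr ⟨a, b, by omega, by omega⟩

theorem Par.R_big (h : Par p q) : 17 ≤ R q := by
  have hb := h.big
  rcases h.R_eq with ⟨a, b, c, -⟩ | ⟨a, b, c, -⟩
  · have h7 : 7 ≤ q := by
      have := h.ne
      omega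
    have : 7 * 7 ≤ q * q := Nat.mul_le_mul h7 h7
    omega
  · have : 4 * 4 ≤ q * q := Nat.mul_le_mul hb hb
    omega

theorem Par.R_odd (h : Par p q) : R q % 2 = 1 := by
  rcases h.R_eq with ⟨a, b, c, -⟩ | ⟨a, b, c, -⟩
  · have h1 : q * q % 4 = 1 := by
      have : q % 4 = 1 ∨ q % 4 = 3 := by omega
      rcases this with h2 | h2 <;> rw [Nat.mul_mod, h2]
    omega
  · have h1 : q * q % 2 = 0 := by
      rw [Nat.mul_mod, show q % 2 = 0 by omega]
    omega

theorem Par.R_mod_four (h : Par p q) : R q % 4 = 1 := by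
  rcases h.R_eq with ⟨a, b, c, -⟩ | ⟨a, b, c, -⟩
  · have h1 : q * q % 8 = 1 := by
      have : q % 8 = 1 ∨ q % 8 = 3 ∨ q % 8 = 5 ∨ q % 8 = 7 := by omega
      rcases this with h2 | h2 | h2 | h2 <;> rw [Nat.mul_mod, h2]
    omega
  · have h1 : q * q % 4 = 0 := by
      rw [Nat.mul_mod, b]
    omega

/-- `(R, E) = 1` -/
theorem Par.coprime_E (h : Par p q) : Nat.Coprime (R q) (E q) := by
  have h1 := h.R_odd
  apply Nat.coprime_of_dvd
  intro k hk h2 h3
  rcases h.R_eq with ⟨-, -, -, h4⟩ | ⟨-, -, -, h4⟩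
  · rw [h4] at h2
    have := (Nat.dvd_add_right h3).1 h2
    exact hk.one_lt.ne' (Nat.dvd_one.1 this)
  · have h5 := h2
    rw [h4] at h5
    have := (Nat.dvd_add_right h3).1 h5
    rw [Nat.prime_dvd_prime_iff_eq hk Nat.prime_two] at this
    subst this
    omega

theorem Par.p_dvd (h : Par p q) : p ∣ q := by
  obtain ⟨n, hn⟩ := h.pow
  rw [hn]
  apply dvd_pow_self
  rintro rfl
  have := h.big
  rw [hn] at this
  simp at this

/-- `(R, p) = 1` -/
theorem Par.coprime_p (h : Par p q) : Nat.Coprime (R q) p := by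
  rw [Nat.coprime_comm, Nat.Prime.coprime_iff_not_dvd h.prime]
  intro h1
  have h2 : p ∣ q ^ 2 + 1 := h.R_mul ▸ h1.mul_right _
  have h3 := (Nat.dvd_add_right (h.p_dvd.trans (dvd_pow_self q two_ne_zero))).1 h2
  exact h.prime.one_lt.ne' (Nat.dvd_one.1 h3)

theorem Par.coprime_ps (h : Par p q) : Nat.Coprime (R q) (ps p) := by
  have h1 := h.coprime_p
  unfold ps
  split_ifs with h3 h2
  · subst h3
    exact h1.pow_right 2
  · subst h2
    exact h1.pow_right 2
  · exact h1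

theorem Par.ps_le (h : Par p q) : ps p ≤ q := by
  obtain ⟨n, hn⟩ := h.pow
  have hb := h.big
  have hp := h.prime
  unfold ps
  split_ifs with h3 h2
  · subst h3
    have : 2 ≤ n := by
      by_contra hlt
      have : n = 0 ∨ n = 1 := by omega
      rcases this with h1 | h1 <;> rw [hn, h1] at hb <;> omega
    rw [hn]
    exact (Nat.pow_le_pow_right (by norm_num) this : 3 ^ 2 ≤ 3 ^ n)
  · omega
  · exact Nat.le_of_dvd (by omega) h.p_dvd

/-- `N` divides `ps p * E q` -/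
def Lam (p q N : ℕ) : Prop := N ∣ ps p * E q

theorem Lam.lcm {M N : ℕ} (h1 : Lam p q M) (h2 : Lam p q N) : Lam p q (Nat.lcm M N) := Nat.lcm_dvd h1 h2

theorem Lam.dvd {M N : ℕ} (h1 : Lam p q M) (h2 : N ∣ M) : Lam p q N := Nat.dvd_trans h2 h1

theorem Lam.mul {M N : ℕ} (h1 : Lam p q M) (h2 : Lam p q N) (h : Nat.Coprime M N) : Lam p q (M * N) :=
  h.mul_dvd_of_dvd_of_dvd h1 h2

theorem p_dvd_ps (p : ℕ) : p ∣ ps p := by
  unfold ps
  split_ifs with h3 h2
  · subst h3; norm_num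
  · subst h2; norm_num
  · exact dvd_rfl

theorem Par.sub_dvd (h : Par p q) : q - 1 ∣ E q ∧ q + 1 ∣ E q := by
  have h1 := h.E_mul
  have h2 : q ^ 2 - 1 = (q - 1) * (q + 1) := H374.Quad.sq_sub_one q (by have := h.big; omega)
  rcases h.parity with ⟨a, b, c⟩ | ⟨a, b, c⟩
  · rw [c] at h1
    obtain ⟨k, hk⟩ : ∃ k, q = 2 * k + 1 := ⟨q / 2, by omega⟩
    have e1 : q - 1 = 2 * k := by omega
    have e2 : q + 1 = 2 * (k + 1) := by omega
    rw [h2, e1, e2] at h1
    rw [e1, e2]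
    constructor
    · refine ⟨k + 1, ?_⟩
      have : E q * 2 = (2 * k * (k + 1)) * 2 := by rw [h1]; ring
      omega
    · refine ⟨k, ?_⟩
      have : E q * 2 = (2 * (k + 1) * k) * 2 := by rw [h1]; ring
      omega
  · rw [c, mul_one] at h1
    rw [h1, h2]
    exact ⟨Dvd.intro _ rfl, Dvd.intro_left _ rfl⟩

/-- the orders of the spectrum divide `R` or `ps * E` -/
theorem Par.om_cases (h : Par p q) {m : ℕ} (hm : Om p q m) : m ∣ R q ∨ Lam p q m := by
  obtain ⟨h1, h2⟩ := h.sub_dvd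
  have hp := p_dvd_ps p
  rcases hm with hm | hm | hm | hm | ⟨h3, hm⟩ | ⟨h3, hm⟩
  · exact Or.inr (hm.trans (Nat.mul_dvd_mul hp h1))
  · exact Or.inr (hm.trans (Nat.mul_dvd_mul hp h2))
  · exact Or.inr (hm.trans (Dvd.intro_left _ rfl))
  · exact Or.inl hm
  · refine Or.inr (hm.trans ?_)
    subst h3
    exact Dvd.intro _ rfl
  · refine Or.inr (hm.trans ?_)
    subst h3
    exact Dvd.intro _ rfl

theorem Par.coprime_lam (h : Par p q) {N : ℕ} (hN : Lam p q N) : Nat.Coprime (R q) N :=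
  Nat.Coprime.coprime_dvd_right hN (h.coprime_ps.mul_right h.coprime_E)

theorem Par.om_coprime (h : Par p q) {m : ℕ} (hm : Om p q m) (hc : ∃ r : ℕ, r.Prime ∧ r ∣ R q ∧ r ∣ m) : m ∣ R q := by
  rcases h.om_cases hm with h1 | h1
  · exact h1
  · exfalso
    obtain ⟨r, hr, h2, h3⟩ := hc
    exact hr.one_lt.ne' (Nat.dvd_one.1 ((h.coprime_lam h1) ▸ Nat.dvd_gcd h2 h3))

/-- **The size lemma.** -/
theorem Par.size (h : Par p q) {N : ℕ} (hN : Lam p q N) : N ^ 2 < 2 * R q ^ 3 := by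
  have hE : 0 < E q := by
    have := h.R_big
    rcases h.R_eq with ⟨-, -, -, h4⟩ | ⟨-, -, -, h4⟩ <;> omega
  have hps : 0 < ps p := by
    have := h.prime.pos
    unfold ps
    split_ifs <;> omega
  have h1 : N ≤ ps p * E q := Nat.le_of_dvd (Nat.mul_pos hps hE) hN
  have h2 : N ≤ q * E q := h1.trans (Nat.mul_le_mul_right _ h.ps_le)
  have h3 : q * q + 1 ≤ 2 * R q := by
    rcases h.R_eq with ⟨-, -, h4, -⟩ | ⟨-, -, h4, -⟩ <;> omega
  have h5 : E q < R q := by
    rcases h.R_eq with ⟨-, -, -, h4⟩ | ⟨-, -, -, h4⟩ <;> omega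
  calc N ^ 2 ≤ (q * E q) ^ 2 := Nat.pow_le_pow_left h2 2
    _ = (q * q) * (E q * E q) := by ring
    _ < (2 * R q) * (R q * R q) := by
        apply Nat.mul_lt_mul_of_lt_of_le (by omega) (Nat.mul_le_mul h5.le h5.le)
        exact Nat.mul_pos (by omega) (by omega)
    _ = 2 * R q ^ 3 := by ring

/-- **Every element order divides `R` or is prime to `R` (and then is `Lam`).** -/
theorem Hyp.cases {S : Type u} [Group S] (hP : Par p q) (h : Hyp p q S) (x : S) :
    orderOf x ∣ R q ∨ (Lam p q (orderOf x) ∧ Nat.Coprime (R q) (orderOf x)) := by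
  rcases hP.om_cases (h.om x) with h1 | h1
  · exact Or.inl h1
  · exact Or.inr ⟨h1, hP.coprime_lam h1⟩

/-- the orders which are divisible by a prime not dividing `R` -/
theorem Hyp.lam {S : Type u} [Group S] (hP : Par p q) (h : Hyp p q S) {m : ℕ} (hx : ∃ x : S, orderOf x = m)
    (hm : Nat.Coprime (R q) m ∨ ∃ s : ℕ, s.Prime ∧ ¬ s ∣ R q ∧ s ∣ m) : Lam p q m := by
  obtain ⟨x, rfl⟩ := hx
  rcases h.cases hP x with h1 | h1
  · rcases hm with hm | ⟨s, hs, h2, h3⟩
    · have h2 : orderOf x = 1 := Nat.dvd_one.1 (hm ▸ Nat.dvd_gcd h1 dvd_rfl)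
      rw [h2]
      exact one_dvd _
    · exact absurd (h3.trans h1) h2
  · exact h1.1

/-- A prime divisor of `R` is adjacent only to prime divisors of `R`. -/
theorem Hyp.not_adj {S : Type u} [Group S] (hP : Par p q) (h : Hyp p q S) {r s : ℕ} (hr : r.Prime) (hrR : r ∣ R q)
    (hs : ¬ s ∣ R q) {x : S} (h1 : r ∣ orderOf x) (h2 : s ∣ orderOf x) : False :=
  hs (h2.trans (hP.om_coprime (h.om x) ⟨r, hr, hrR, h1⟩))

theorem Par.two (hP : Par p q) : ¬ 2 ∣ R q := by
  have := hP.R_odd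
  omega

theorem Hyp.not_two {S : Type u} [Group S] (hP : Par p q) (h : Hyp p q S) {r : ℕ} (hr : r.Prime) (hrR : r ∣ R q) :
    ¬ ∃ x : S, orderOf x = 2 * r := by
  rintro ⟨x, hx⟩
  exact h.not_adj hP hr hrR hP.two (x := x) (by rw [hx]; exact Dvd.intro_left _ rfl) (by rw [hx]; exact Dvd.intro _ rfl)

theorem Hyp.dvd_card {S : Type u} [Group S] (h : Hyp p q S) : R q ∣ Nat.card S := by
  obtain ⟨x, hx⟩ := h.ex
  rw [← hx]
  exact orderOf_dvd_natCard x

theorem Hyp.exists_prime {S : Type u} [Group S] (hP : Par p q) (h : Hyp p q S) :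
    ∃ r : ℕ, r.Prime ∧ r ≠ 2 ∧ r ∣ R q ∧ r ∣ Nat.card S := by
  obtain ⟨r, hr, hd⟩ := Nat.exists_prime_and_dvd (n := R q) (by have := hP.R_big; omega)
  refine ⟨r, hr, ?_, hd, hd.trans h.dvd_card⟩
  rintro rfl
  exact hP.two hd

/-- `R` divides `a` if all prime divisors `r` of `R` are prime to `b` and `R ∣ a * b` -/
theorem dvd_of_coprime {R a b : ℕ} (h : R ∣ a * b) (hb : ∀ r : ℕ, r.Prime → r ∣ R → ¬ r ∣ b) : R ∣ a :=
  (Nat.coprime_of_dvd fun k hk h1 h2 => hb k hk h1 h2).dvd_of_dvd_mul_right h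

end Cfsg.Agent.H379.P4
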