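import Cfsg.Agent.H377.SpElt

/-!
# The normalizer of a torus of order `q² + 1` in `Sp₄(q)`, `q` even
-/

set_option autoImplicit false
set_option linter.unusedSectionVars false
set_option linter.style.haveILetI false

namespace Cfsg.Agent.H379.P4.TwoElt

open Module Cfsg
open Cfsg.Agent.H150 Cfsg.Agent.ClassicalGeometry.SympBasic Cfsg.Agent.ClassicalGeometry.SympIso

/-- **The torus normalizer.** -/
theorem exists_frob {F : Type*} [Field F] [Finite F] [hc : CharP F 2] :
    ∃ x y : Matrix.symplecticGroup (Fin 2) F, orderOf x = Nat.card F ^ 2 + 1 ∧ y ^ 4 = 1 ∧ y ^ 2 ≠ 1 ∧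
      y * x = x ^ Nat.card F * y := by
  classical
  haveI : Fact (Nat.Prime 2) := ⟨Nat.prime_two⟩
  haveI : NeZero (2 * 2) := ⟨by omega⟩
  let L := FiniteField.Extension F 2 (2 * 2)
  have hL : Nat.card L = Nat.card F ^ (2 * 2) := FiniteField.natCard_extension F 2 (2 * 2)
  have hfr : finrank F L = 2 * 2 := FiniteField.finrank_extension F 2 (2 * 2)
  haveI : FiniteDimensional F L := Module.Finite.of_finite
  letI : Fintype F := Fintype.ofFinite F
  letI : Fintype L := Fintype.ofFinite L
  haveI : CharP L 2 := charP_of_injective_algebraMap (algebraMap F L).injective 2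
  obtain ⟨a, -, ha⟩ := FiniteField.card F 2
  set q : ℕ := Nat.card F with hq
  have hq1 : 1 < q := Finite.one_lt_card
  have hqa : q = 2 ^ (a : ℕ) := by rw [hq, Nat.card_eq_fintype_card, ha]
  set Q : ℕ := q ^ 2 with hQ
  have hQp : Q = 2 ^ ((a : ℕ) * 2) := by rw [hQ, hqa, ← pow_mul]
  have hadd : ∀ x y : L, (x + y) ^ Q = x ^ Q + y ^ Q := by
    intro x y
    rw [hQp]
    exact add_pow_char_pow x y 2 ((a : ℕ) * 2)
  have hq4 : ∀ x : L, x ^ (q ^ 4) = x := by
    intro x
    rw [show q ^ 4 = Nat.card L by rw [hL], Nat.card_eq_fintype_card]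
    exact FiniteField.pow_card x
  have hQQ : ∀ x : L, (x ^ Q) ^ Q = x := by
    intro x
    rw [← pow_mul, hQ, ← pow_add]
    exact hq4 x
  have hF : ∀ c : F, (algebraMap F L c) ^ Q = algebraMap F L c := by
    intro c
    rw [← map_pow]
    congr 1
    rw [hQ, hq, Nat.card_eq_fintype_card]
    exact FiniteField.pow_card_pow 2 c
  have hsum : Finset.range (finrank F L) = Finset.range 4 := by rw [hfr]
  have htrf : ∀ z : L, algebraMap F L (Algebra.trace F L z) = z + z ^ q + z ^ q ^ 2 + z ^ q ^ 3 := by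
    intro z
    have hcq : Fintype.card F = q := by rw [hq, Nat.card_eq_fintype_card]
    rw [FiniteField.algebraMap_trace_eq_sum_pow, hsum]
    simp only [Finset.sum_range_succ, Finset.sum_range_zero, zero_add, pow_zero, pow_one, ← hq]
  -- the trace vanishes on symmetric elements
  have htr : ∀ z : L, z ^ Q = z → Algebra.trace F L z = 0 := by
    intro z hz
    apply (algebraMap F L).injective
    rw [htrf, map_zero]
    have h1 : z ^ q ^ 2 = z := hz
    have h2 : z ^ q ^ 3 = z ^ q := by
      rw [show q ^ 3 = q ^ 2 * q by ring, pow_mul, h1]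
    rw [h1, h2]
    have h3 : z + z ^ q + z + z ^ q = (z + z) + (z ^ q + z ^ q) := by ring
    rw [h3, CharTwo.add_self_eq_zero, CharTwo.add_self_eq_zero, add_zero]
  have htrq : ∀ z : L, Algebra.trace F L (z ^ q) = Algebra.trace F L z := by
    intro z
    apply (algebraMap F L).injective
    rw [htrf, htrf]
    have h1 : (z ^ q) ^ q ^ 3 = z := by
      rw [← pow_mul, ← pow_succ']; exact hq4 z
    have h2 : (z ^ q) ^ q = z ^ q ^ 2 := by
      rw [← pow_mul, show q * q = q ^ 2 by ring]
    have h3 : (z ^ q) ^ q ^ 2 = z ^ q ^ 3 := by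
      rw [← pow_mul, show q * q ^ 2 = q ^ 3 by ring]
    rw [h1, h2, h3]
    ring
  have hcardL : Nat.card Lˣ = (Q + 1) * (Q - 1) := by
    rw [Nat.card_units, hL, two_mul, pow_add, ← hQ, ← Nat.sq_sub_sq, one_pow, pow_two]
  obtain ⟨ζ, hζ⟩ : ∃ ζ : Lˣ, orderOf ζ = Q + 1 := by
    obtain ⟨g, hg⟩ := IsCyclic.exists_ofOrder_eq_natCard (α := Lˣ)
    exact ⟨g ^ (orderOf g / (Q + 1)), orderOf_pow_orderOf_div (by rw [hg]; exact Nat.card_pos.ne')
      (by rw [hg, hcardL]; exact Dvd.intro _ rfl)⟩
  have hζ' : orderOf (ζ : L) = Q + 1 := by rw [orderOf_units, hζ]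
  have hζQ : (ζ : L) * (ζ : L) ^ Q = 1 := by
    rw [← pow_succ', ← orderOf_dvd_iff_pow_eq_one, hζ']
  let B : LinearMap.BilinForm F L :=
    LinearMap.mk₂ F (fun u v : L => Algebra.trace F L (u * v ^ Q))
      (fun u u' v => by rw [← map_add]; congr 1; ring)
      (fun c u v => by rw [← map_smul]; congr 1; simp only [Algebra.smul_def]; ring)
      (fun u v v' => by rw [← map_add]; congr 1; rw [hadd]; ring)
      (fun c u v => by
        rw [← map_smul]; congr 1; simp only [Algebra.smul_def]; rw [mul_pow, hF]; ring)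
  have hB : ∀ u v : L, B u v = Algebra.trace F L (u * v ^ Q) := fun u v => rfl
  have hnd : ∀ x : L, (∀ y : L, Algebra.trace F L (x * y) = 0) → x = 0 := by
    intro x hx
    by_contra hne
    obtain ⟨t, ht⟩ := Algebra.trace_surjective F L 1
    have h1 := hx (x⁻¹ * t)
    rw [← mul_assoc, mul_inv_cancel₀ hne, one_mul, ht] at h1
    exact one_ne_zero h1
  let T : L →ₗ[F] L := LinearMap.mulLeft F (ζ : L)
  let S : L →ₗ[F] L := (FiniteField.frobeniusAlgHom F L).toLinearMap
  have hS : ∀ v : L, S v = v ^ q := by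
    intro v
    change v ^ Fintype.card F = v ^ q
    rw [hq, Nat.card_eq_fintype_card]
  have hTpow : ∀ (k : ℕ) (v : L), (T ^ k) v = (ζ : L) ^ k * v := by
    intro k
    induction k with
    | zero => intro v; simp
    | succ k ih =>
      intro v
      rw [pow_succ, Module.End.mul_apply, ih]
      change (ζ : L) ^ k * ((ζ : L) * v) = _
      rw [pow_succ, mul_assoc]
  have hSpow : ∀ (k : ℕ) (v : L), (S ^ k) v = v ^ q ^ k := by
    intro k
    induction k with
    | zero => intro v; simp
    | succ k ih =>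
      intro v
      rw [pow_succ, Module.End.mul_apply, ih, hS, ← pow_mul, ← pow_succ']
  have hAlt : B.IsAlt := by
    intro x
    rw [hB]
    apply htr
    rw [mul_pow, hQQ]
    ring
  have hBnd : ∀ u, (∀ v, B u v = 0) → u = 0 := by
    intro u hu
    exact hnd _ fun y => by
      have := hu (y ^ Q)
      rw [hB, hQQ] at this
      exact this
  have hTi : ∀ x y, B (T x) (T y) = B x y := by
    intro x y
    have h := hTpow 1
    simp only [pow_one] at h
    rw [h, h, hB, hB]
    congr 1
    rw [mul_pow]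
    linear_combination (x * y ^ Q) * hζQ
  have hSi : ∀ x y, B (S x) (S y) = B x y := by
    intro x y
    rw [hS, hS, hB, hB, ← htrq (x * y ^ Q)]
    congr 1
    rw [mul_pow, ← pow_mul, ← pow_mul, mul_comm q Q]
  obtain ⟨e, he⟩ := exists_linearEquiv_sympForm B hAlt hBnd hfr
  let φ : Module.End F L ≃ₐ[F] Matrix (Fin 2 ⊕ Fin 2) (Fin 2 ⊕ Fin 2) F :=
    (e.symm.conjAlgEquiv F).trans LinearMap.toMatrixAlgEquiv'
  have hφ : ∀ (A : Module.End F L) x, (φ A).mulVec x = e.symm (A (e x)) := by
    intro A x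
    show (LinearMap.toMatrix' (e.symm.conj A)).mulVec x = _
    rw [LinearMap.toMatrix'_mulVec]
    rfl
  have hmem : ∀ A : Module.End F L, (∀ x y, B (A x) (A y) = B x y) → φ A ∈ Matrix.symplecticGroup (Fin 2) F := by
    intro A hA
    rw [mem_symplecticGroup_iff]
    intro x y
    rw [hφ, hφ, ← he, ← he, e.apply_symm_apply, e.apply_symm_apply, hA]
  refine ⟨⟨φ T, hmem T hTi⟩, ⟨φ S, hmem S hSi⟩, ?_, ?_, ?_, ?_⟩
  · apply orderOf_eq_of_forall
    intro j
    rw [← hζ', orderOf_dvd_iff_pow_eq_one]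
    constructor
    · intro h
      have h1 := congrArg Subtype.val h
      rw [SubmonoidClass.coe_pow] at h1
      change (φ T) ^ j = 1 at h1
      rw [← map_pow, ← map_one φ] at h1
      have h2 := φ.injective h1
      have h3 := hTpow j 1
      rw [h2, mul_one] at h3
      exact h3.symm
    · intro h
      apply Subtype.ext
      rw [SubmonoidClass.coe_pow]
      change (φ T) ^ j = 1
      rw [← map_pow, ← map_one φ]
      congr 1
      apply LinearMap.ext
      intro v
      rw [hTpow, h, one_mul]; rfl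
  · apply Subtype.ext
    rw [SubmonoidClass.coe_pow]
    change (φ S) ^ 4 = 1
    rw [← map_pow, ← map_one φ]
    congr 1
    apply LinearMap.ext
    intro v
    rw [hSpow, hq4]; rfl
  · intro h
    have h1 := congrArg Subtype.val h
    rw [SubmonoidClass.coe_pow] at h1
    change (φ S) ^ 2 = 1 at h1
    rw [← map_pow, ← map_one φ] at h1
    have h2 := φ.injective h1
    have h3 := hSpow 2 (ζ : L)
    rw [h2] at h3
    change (ζ : L) = (ζ : L) ^ Q at h3
    have h4 : (ζ : L) ^ 2 = 1 := by
      rw [pow_two]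
      nth_rewrite 2 [h3]
      exact hζQ
    have h5 := orderOf_dvd_of_pow_eq_one h4
    rw [hζ'] at h5
    have h6 := Nat.le_of_dvd (by norm_num) h5
    have h7 : 1 < Q := Nat.one_lt_pow (by norm_num) hq1
    omega
  · apply Subtype.ext
    rw [Submonoid.coe_mul, Submonoid.coe_mul, SubmonoidClass.coe_pow]
    change φ S * φ T = (φ T) ^ q * φ S
    rw [← map_pow, ← map_mul, ← map_mul]
    congr 1
    apply LinearMap.ext
    intro v
    rw [Module.End.mul_apply, Module.End.mul_apply, hTpow, hS, hS]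
    change ((ζ : L) * v) ^ q = _
    rw [mul_pow]

end Cfsg.Agent.H379.P4.TwoElt
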