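import Mathlib
import Cfsg.Agent.H379.P4.SpFive

/-!
# Elements of `SL₂(q) ∘ SL₂(q)` whose order divides neither `q - 1` nor `q + 1`
-/

set_option autoImplicit false
set_option linter.unusedSimpArgs false
set_option linter.unusedSectionVars false

namespace Cfsg.Agent.H379.P4.Mixed

open Finset Matrix Coef SLTwo Cfsg.Agent.H379.P4.Fix Conj Tr LemK SpEmb SpFive

open scoped MatrixGroups

universe u

/-- the order of `y` modulo the centre divides `q² - 1` but neither `q - 1` nor `q + 1` -/
def Mix {F : Type u} [Field F] [Fintype F] (y : symplecticGroup (Fin 2) F) : Prop :=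
  y ^ (Fintype.card F ^ 2 - 1) = 1 ∧ (∀ s : F, s ^ 2 = 1 → (y ^ (Fintype.card F - 1)).1 ≠ s • 1) ∧
      ∀ s : F, s ^ 2 = 1 → (y ^ (Fintype.card F + 1)).1 ≠ s • 1

theorem exists_mix {F : Type u} [Field F] [Fintype F] (h2 : (2 : F) ≠ 0) (hq6 : 6 ≤ Fintype.card F) :
    ∃ z : SL(2, F), ∀ c : SL(2, F), c * c = -1 → Mix (em (c, z)) := by
  classical
  have hp2 : ringChar F ≠ 2 := by
    intro h
    apply h2
    have := ringChar.Nat.cast_ringChar (R := F)
    rw [h] at this
    exact_mod_cast this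
  have hodd := FiniteField.odd_card_of_char_ne_two hp2
  set q := Fintype.card F with hq
  have hne1 : (-1 : F) ≠ 1 := by
    intro h
    apply h2
    linear_combination (-1 : F) * h
  have hsq : q ^ 2 - 1 = (q - 1) * (q + 1) := by
    obtain ⟨k, hk⟩ : ∃ k, q = k + 1 := ⟨q - 1, by omega⟩
    rw [hk, Nat.add_sub_cancel, Nat.sub_eq_iff_eq_add (Nat.one_le_pow _ _ (by omega))]
    ring
  have hone : ∀ {c : SL(2, F)} {n : ℕ}, c * c = -1 → 4 ∣ n → c ^ n = 1 := by
    rintro c n hc ⟨k, rfl⟩
    have : c ^ 4 = 1 := by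
      rw [show 4 = 2 * 2 from rfl, pow_mul, pow_two c, hc, neg_one_sq]
    rw [pow_mul, this, one_pow]
  have hmone : ∀ {c : SL(2, F)} {n : ℕ}, c * c = -1 → n % 4 = 2 → c ^ n = -1 := by
    intro c n hc hn
    have h1 : n = 4 * (n / 4) + 2 := by omega
    rw [h1, pow_add, hone hc (Dvd.intro _ rfl), one_mul, pow_two, hc]
  have hval : ∀ {c z : SL(2, F)} {n : ℕ} {s : F}, ((em (c, z)) ^ n).1 = s • 1 →
      (c ^ n).1 = s • (1 : Matrix (Fin 2) (Fin 2) F) ∧ (z ^ n).1 = s • (1 : Matrix (Fin 2) (Fin 2) F) := by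
    intro c z n s h
    rw [← map_pow, Prod.pow_mk] at h
    exact em_scalar h
  have hs1 : ∀ {s : F}, (1 : SL(2, F)).1 = s • (1 : Matrix (Fin 2) (Fin 2) F) → s = 1 := by
    intro s h
    have := congrFun (congrFun h 0) 0
    simpa using this.symm
  have hs2 : ∀ {s : F}, (-1 : SL(2, F)).1 = s • (1 : Matrix (Fin 2) (Fin 2) F) → s = -1 := by
    intro s h
    have e1 : ((-1 : SL(2, F)).1 : Matrix (Fin 2) (Fin 2) F) = -1 := by
      rw [Matrix.SpecialLinearGroup.coe_neg]; rfl
    rw [e1] at h
    have := congrFun (congrFun h 0) 0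
    simp at this
    exact this.symm
  have hmod : q % 4 = 3 ∨ q % 4 = 1 := by omega
  rcases hmod with hmod | hmod
  · -- the split torus
    obtain ⟨g, hg⟩ := IsCyclic.exists_ofOrder_eq_natCard (α := Fˣ)
    have hgo : orderOf g = q - 1 := by rw [hg, Nat.card_eq_fintype_card, Fintype.card_units]
    have hhm : ∀ n : ℕ, (hm g : SL(2, F)) ^ n = hm (g ^ n) := by
      intro n
      induction n with
      | zero => rw [pow_zero, pow_zero, hm_one]
      | succ n ih => rw [pow_succ, pow_succ, ih, hm_mul]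
    have hg1 : g ^ (q - 1) = 1 := by rw [← hgo, pow_orderOf_eq_one]
    have hgh : g ^ ((q - 1) / 2) = -1 := by
      have h3 : (g ^ ((q - 1) / 2)) ^ 2 = 1 := by
        rw [← pow_mul, Nat.div_mul_cancel (by omega), hg1]
      have h4 : g ^ ((q - 1) / 2) ≠ 1 := by
        intro h5
        have h6 := orderOf_dvd_of_pow_eq_one h5
        rw [hgo] at h6
        have := Nat.le_of_dvd (by omega) h6
        omega
      have h5 : ((g ^ ((q - 1) / 2) : Fˣ) : F) ^ 2 = 1 := by
        rw [← Units.val_pow_eq_pow_val, h3, Units.val_one]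
      apply Units.ext
      rw [Units.val_neg, Units.val_one]
      rcases (sq_eq_one_or h5) with h6 | h6
      · exact absurd (Units.ext (by rw [h6, Units.val_one])) h4
      · exact h6
    refine ⟨hm g, fun c hc => ⟨?_, ?_, ?_⟩⟩
    · rw [← map_pow, Prod.pow_mk, hsq]
      have h3 : c ^ ((q - 1) * (q + 1)) = 1 := hone hc (by
        have : 4 ∣ q + 1 := by omega
        exact this.mul_left _)
      have h4 : (hm g : SL(2, F)) ^ ((q - 1) * (q + 1)) = 1 := by
        rw [hhm, pow_mul, hg1, one_pow, hm_one]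
      rw [h3, h4, Prod.mk_one_one, map_one]
    · intro s _ hcon
      obtain ⟨h3, h4⟩ := hval hcon
      rw [hmone hc (by omega)] at h3
      rw [hhm, hg1, hm_one] at h4
      exact hne1 ((hs2 h3).symm.trans (hs1 h4))
    · intro s _ hcon
      obtain ⟨h3, h4⟩ := hval hcon
      rw [hone hc (by omega)] at h3
      rw [hs1 h3, one_smul, hhm] at h4
      have h5 : ((g ^ (q + 1) : Fˣ) : F) = 1 := congrFun (congrFun h4 0) 0
      have h6 : g ^ (q + 1) = 1 := Units.ext h5
      have h7 := orderOf_dvd_of_pow_eq_one h6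
      rw [hgo] at h7
      have h8 : q - 1 ∣ 2 := by
        have h9 : q + 1 = (q - 1) + 2 := by omega
        rw [h9] at h7
        exact (Nat.dvd_add_right (dvd_refl _)).1 h7
      have := Nat.le_of_dvd (by norm_num) h8
      omega
  · -- the nonsplit torus
    obtain ⟨z, β, hβ, hz⟩ := exists_nonsplit (F := F)
    have hz1 : z ^ (q + 1) = 1 := by
      have h3 := ((hz (q + 1)).2 1 (one_pow 2)).2 (by rw [hβ.pow_eq_one, map_one])
      rw [one_smul] at h3
      exact Subtype.ext h3
    have hβh : β ^ ((q + 1) / 2) = -1 := by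
      have h3 : (β ^ ((q + 1) / 2)) ^ 2 = 1 := by
        rw [← pow_mul, Nat.div_mul_cancel (by omega), hβ.pow_eq_one]
      rcases (sq_eq_one_or h3) with h6 | h6
      · exfalso
        have h7 := (hβ.pow_eq_one_iff_dvd _).1 h6
        have := Nat.le_of_dvd (by omega) h7
        omega
      · exact h6
    have hzh : z ^ ((q + 1) / 2) = -1 := by
      have h3 := ((hz ((q + 1) / 2)).2 (-1) (by ring)).2 (by rw [hβh, map_neg, map_one])
      rw [neg_smul, one_smul] at h3
      apply Subtype.ext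
      rw [Matrix.SpecialLinearGroup.coe_neg, Matrix.SpecialLinearGroup.coe_one]
      exact h3
    refine ⟨z, fun c hc => ⟨?_, ?_, ?_⟩⟩
    · rw [← map_pow, Prod.pow_mk, hsq]
      have h3 : c ^ ((q - 1) * (q + 1)) = 1 := hone hc (by
        have : 4 ∣ q - 1 := by omega
        exact this.mul_right _)
      have h4 : z ^ ((q - 1) * (q + 1)) = 1 := by
        rw [mul_comm, pow_mul, hz1, one_pow]
      rw [h3, h4, Prod.mk_one_one, map_one]
    · intro s _ hcon
      obtain ⟨h3, h4⟩ := hval hcon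
      rw [hone hc (by omega)] at h3
      have hs := hs1 h3
      subst hs
      have h5 := ((hz (q - 1)).2 1 (one_pow 2)).1 h4
      rw [map_one] at h5
      have h7 := (hβ.pow_eq_one_iff_dvd _).1 h5
      have := Nat.le_of_dvd (by omega) h7
      omega
    · intro s _ hcon
      obtain ⟨h3, h4⟩ := hval hcon
      rw [hmone hc (by omega)] at h3
      rw [hz1] at h4
      exact hne1 ((hs2 h3).symm.trans (hs1 h4))

end Cfsg.Agent.H379.P4.Mixed
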